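import Groth.Prelude.Def_W4c6eohyperellchar2Gc
import Mathlib

/-! The explicit module in characteristic 2: values of `F` and `V` on basis vectors. -/

universe u

open W4c6eohyperellchar2

namespace Groth.Agent.DieuGc29

variable {c : ℕ} {k : Type u} [Field k]

theorem coefX_X (j n : ℕ) :
    coefX (X c k j) n = if 1 ≤ n ∧ n ≤ c ∧ n = j then 1 else 0 := by
  simp only [coefX, X]
  split_ifs <;> first | rfl | omega

theorem coefY_X (j n : ℕ) : coefY (X c k j) n = 0 := by
  simp [coefY, X]

theorem coefX_Y (j n : ℕ) : coefX (Y c k j) n = 0 := by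
  simp [coefX, Y]

theorem coefY_Y (j n : ℕ) :
    coefY (Y c k j) n = if 1 ≤ n ∧ n ≤ c ∧ n = j then 1 else 0 := by
  simp only [coefY, Y]
  split_ifs <;> first | rfl | omega

theorem X_fst (j : ℕ) (i : Fin c) : (X c k j).1 i = if i.val + 1 = j then 1 else 0 := rfl
theorem X_snd (j : ℕ) (i : Fin c) : (X c k j).2 i = 0 := rfl
theorem Y_fst (j : ℕ) (i : Fin c) : (Y c k j).1 i = 0 := rfl
theorem Y_snd (j : ℕ) (i : Fin c) : (Y c k j).2 i = if i.val + 1 = j then 1 else 0 := rfl

theorem F_Y (j : ℕ) : F c k (Y c k j) = 0 := by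
  ext i <;> simp [F, coefX_Y]

theorem F_X_even (j : ℕ) (hjc : j ≤ c) (he : j % 2 = 0) : F c k (X c k j) = X c k (j / 2) := by
  ext i
  · have := i.isLt
    simp only [F, coefX_X, X_fst]
    split_ifs <;> first | omega | rfl | simp
  · have := i.isLt
    simp only [F, coefX_X, X_snd]
    split_ifs <;> first | omega | rfl | simp

theorem F_X_odd (j : ℕ) (hjc : j ≤ c) (ho : j % 2 = 1) :
    F c k (X c k j) = Y c k (c - (j - 1) / 2) := by
  ext i
  · have := i.isLt
    simp only [F, coefX_X, Y_fst]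
    split_ifs <;> first | omega | rfl | simp
  · have := i.isLt
    simp only [F, coefX_X, Y_snd]
    split_ifs <;> first | omega | rfl | simp

variable [CharP k 2] [PerfectRing k 2]

theorem V_Y (j : ℕ) (hj : 1 ≤ j) : V c k (Y c k j) = Y c k (2 * j) := by
  ext i
  · rfl
  · have := i.isLt
    simp only [V, coefX_Y, coefY_Y, Y_snd]
    split_ifs <;> first | omega | simp

theorem V_X (j : ℕ) (hjc : j ≤ c) (hcj : c < 2 * j) :
    V c k (X c k j) = Y c k (2 * c - 2 * j + 1) := by
  ext i
  · rfl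
  · have := i.isLt
    simp only [V, coefX_X, coefY_X, Y_snd]
    split_ifs <;> first | omega | simp

theorem iterate_V_Y (n : ℕ) : ∀ (a : ℕ), 1 ≤ a →
    (V c k)^[n] (Y c k a) = Y c k (2 ^ n * a) := by
  induction n with
  | zero => intro a ha; simp
  | succ n ih =>
    intro a ha
    rw [Function.iterate_succ_apply, V_Y a ha, ih (2 * a) (by omega), pow_succ, mul_assoc]

theorem iterate_F_X (e : ℕ) : ∀ (l : ℕ), 2 ^ e * l ≤ c →
    (F c k)^[e] (X c k (2 ^ e * l)) = X c k l := by
  induction e with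
  | zero => intro l _; simp
  | succ e ih =>
    intro l h
    have h2 : 2 ^ (e + 1) * l = 2 * (2 ^ e * l) := by ring
    rw [Function.iterate_succ_apply, F_X_even _ h (by omega), h2, Nat.mul_div_cancel_left _ two_pos,
      ih l (by omega)]

theorem relation (j e l : ℕ) (hj : j = 2 ^ e * l) (hl : Odd l) (hjc : j ≤ c)
    (j' n : ℕ) (hj'c : j' ≤ c) (hcj' : c < 2 * j') (hn : 2 ^ n * (2 * c - 2 * j' + 1) = c - (l - 1) / 2) :
    (F c k)^[e + 1] (X c k j) + (V c k)^[n + 1] (X c k j') = 0 := by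
  have hl' : l % 2 = 1 := Nat.odd_iff.mp hl
  have hlc : l ≤ c := le_trans (Nat.le_mul_of_pos_left l (Nat.two_pow_pos e)) (hj ▸ hjc)
  rw [Function.iterate_succ_apply', hj, iterate_F_X e l (hj ▸ hjc), F_X_odd l hlc hl',
    Function.iterate_succ_apply, V_X j' hj'c hcj', iterate_V_Y n _ (by omega), hn]
  ext i <;> simp [CharTwo.add_self_eq_zero]

theorem mem_of_gen (N : Submodule k (GcMod c k))
    (hF : ∀ v ∈ N, F c k v ∈ N) (hV : ∀ v ∈ N, V c k v ∈ N)
    (hX : ∀ j : ℕ, c < 2 * j → j ≤ c → X c k j ∈ N) :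
    (∀ j, 1 ≤ j → j ≤ c → X c k j ∈ N) ∧ ∀ j, 1 ≤ j → j ≤ c → Y c k j ∈ N := by
  have hXall : ∀ m j, c - j = m → 1 ≤ j → j ≤ c → X c k j ∈ N := by
    intro m
    induction m using Nat.strong_induction_on with
    | _ m ih =>
      intro j hm h1 h2
      by_cases h : c < 2 * j
      · exact hX j h h2
      · have h3 := hF _ (ih (c - 2 * j) (by omega) (2 * j) rfl (by omega) (by omega))
        rwa [F_X_even (2 * j) (by omega) (by omega), Nat.mul_div_cancel_left _ two_pos] at h3
  refine ⟨fun j => hXall _ j rfl, ?_⟩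
  intro j
  induction j using Nat.strong_induction_on with
  | _ j ih =>
    intro h1 h2
    rcases Nat.even_or_odd' j with ⟨a, rfl | rfl⟩
    · have h3 := hV _ (ih a (by omega) (by omega) (by omega))
      rwa [V_Y a (by omega)] at h3
    · have h3 := hV _ (hX (c - a) (by omega) (by omega))
      rwa [V_X (c - a) (by omega) (by omega), show 2 * c - 2 * (c - a) + 1 = 2 * a + 1 by omega] at h3

theorem eq_top_of_mem (N : Submodule k (GcMod c k)) (h1 : ∀ j, 1 ≤ j → j ≤ c → X c k j ∈ N)
    (h2 : ∀ j, 1 ≤ j → j ≤ c → Y c k j ∈ N) : N = ⊤ := by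
  rw [eq_top_iff]
  intro v _
  have hv : v = ∑ i : Fin c, v.1 i • X c k (i.val + 1) + ∑ i : Fin c, v.2 i • Y c k (i.val + 1) := by
    ext i <;> simp [Prod.fst_sum, Prod.snd_sum, X, Y, Finset.sum_apply, ← Fin.ext_iff]
  rw [hv]
  exact add_mem (sum_mem fun i _ => N.smul_mem _ (h1 _ (by omega) (by omega)))
    (sum_mem fun i _ => N.smul_mem _ (h2 _ (by omega) (by omega)))

theorem image_span_le (v : GcMod c k)
    (hv : v ∈ Submodule.span k (Set.range (F c k) ∪ Set.range (V c k))) (j : ℕ) (hjc : c < 2 * j) :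
    coefX v j = 0 := by
  induction hv using Submodule.span_induction with
  | mem x hx =>
    rcases hx with ⟨w, rfl⟩ | ⟨w, rfl⟩
    · simp only [coefX, F]
      split_ifs <;> first | omega | rfl | simp
    · simp [coefX, V]
  | zero => simp [coefX]
  | add x y _ _ hx hy =>
    simp only [coefX] at hx hy ⊢
    split_ifs at hx hy ⊢ <;> simp_all
  | smul a x _ hx =>
    simp only [coefX] at hx ⊢
    split_ifs at hx ⊢ <;> simp_all

theorem quotient_basis :
    LinearIndependent k (fun j : {j : ℕ // c < 2 * j ∧ j ≤ c} =>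
        Submodule.mkQ (Submodule.span k (Set.range (F c k) ∪ Set.range (V c k))) (X c k j.1)) ∧
      Submodule.span k (Set.range (fun j : {j : ℕ // c < 2 * j ∧ j ≤ c} =>
        Submodule.mkQ (Submodule.span k (Set.range (F c k) ∪ Set.range (V c k))) (X c k j.1))) = ⊤ := by
  classical
  set W := Submodule.span k (Set.range (F c k) ∪ Set.range (V c k))
  constructor
  · rw [linearIndependent_iff']
    intro s g hg j hj
    have h1 : ∑ i ∈ s, g i • X c k i.1 ∈ W := by
      rw [← Submodule.Quotient.mk_eq_zero, ← Submodule.mkQ_apply, map_sum]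
      simpa [map_smul] using hg
    have h2 := image_span_le _ h1 j.1 j.2.1
    have hj1 : 1 ≤ j.1 ∧ j.1 ≤ c := ⟨by have := j.2.1; omega, j.2.2⟩
    simp only [coefX, dif_pos hj1, Prod.fst_sum, Finset.sum_apply, Prod.smul_fst, Pi.smul_apply,
      X_fst] at h2
    rw [Finset.sum_eq_single j] at h2
    · simpa [show j.1 - 1 + 1 = j.1 by omega] using h2
    · intro b _ hb
      have : j.1 - 1 + 1 ≠ b.1 := by
        intro h; apply hb; apply Subtype.ext; omega
      simp [this]
    · intro h; exact absurd hj h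
  · rw [← Set.image_univ, ← Set.image_image (fun v => Submodule.mkQ W v)]
    rw [Submodule.span_image, ← Submodule.range_mkQ W, ← Submodule.map_top,]
    refine le_antisymm (Submodule.map_mono le_top) ?_
    have hsup : Submodule.span k ((fun j : {j : ℕ // c < 2 * j ∧ j ≤ c} => X c k j.1) '' Set.univ) ⊔ W = ⊤ := by
      set N := Submodule.span k ((fun j : {j : ℕ // c < 2 * j ∧ j ≤ c} => X c k j.1) '' Set.univ) ⊔ W
      have hF : ∀ v ∈ N, F c k v ∈ N := fun v _ =>
        Submodule.mem_sup_right (Submodule.subset_span (Or.inl ⟨v, rfl⟩))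
      have hV : ∀ v ∈ N, V c k v ∈ N := fun v _ =>
        Submodule.mem_sup_right (Submodule.subset_span (Or.inr ⟨v, rfl⟩))
      obtain ⟨a, b⟩ := mem_of_gen N hF hV (fun j h1 h2 =>
        Submodule.mem_sup_left (Submodule.subset_span ⟨⟨j, h1, h2⟩, trivial, rfl⟩))
      exact eq_top_of_mem N a b
    rw [← hsup, Submodule.map_sup]
    refine sup_le le_rfl ?_
    rw [Submodule.map_le_iff_le_comap]
    intro x hx
    rw [Submodule.mem_comap, Submodule.mkQ_apply, (Submodule.Quotient.mk_eq_zero W).mpr hx]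
    exact zero_mem _

end Groth.Agent.DieuGc29
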